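import Mathlib

set_option autoImplicit false
set_option linter.unusedSectionVars false
universe u
open CategoryTheory PreGaloisCategory

namespace Groth.Agent.Lib.Helper6.Pi1A

variable (G : Type u) [Group G]

/-- the forgetful functor -/
abbrev FF : Action FintypeCat.{u} G ⥤ FintypeCat.{u} := Action.forget _ _

/-- the canonical map `G → Aut F`. -/
noncomputable def iota : G →* Aut (FF G) where
  toFun g := NatIso.ofComponents (fun X => X.ρAut g) (by
    intro X Y f
    exact (f.comm g).symm)
  map_one' := by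
    ext X x
    show (X.ρ 1).hom x = x
    rw [map_one]
    rfl
  map_mul' g h := by
    ext X x
    show (X.ρ (g * h)).hom x = (X.ρ g).hom ((X.ρ h).hom x)
    rw [map_mul]
    rfl

lemma iota_app (g : G) (X : Action FintypeCat.{u} G) (x : X.V) :
    (iota G g).hom.app X x = (X.ρ g).hom x := rfl

/-- a finite `G`-set gives an object. -/
noncomputable def mkObj (H : Type u) [Fintype H] [MulAction G H] : Action FintypeCat.{u} G :=
  Action.FintypeCat.ofMulAction G (FintypeCat.of H)

lemma mkObj_ρ (H : Type u) [Fintype H] [MulAction G H] (g : G) (x : H) :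
    ((mkObj G H).ρ g).hom x = g • x := rfl

/-- equivariant maps give morphisms -/
noncomputable def mkHom {H H' : Type u} [Fintype H] [MulAction G H] [Fintype H'] [MulAction G H']
    (φ : H → H') (hφ : ∀ (g : G) (x : H), φ (g • x) = g • φ x) :
    mkObj G H ⟶ mkObj G H' :=
  ⟨FintypeCat.homMk φ, by
    intro g
    ext x
    exact hφ g x⟩

/-- product of function spaces -/
abbrev PP {n : ℕ} (Xs : Fin n → Action FintypeCat.{u} G) : Type u :=
  (i : Fin n) → (Xs i).V → (Xs i).V

noncomputable instance {n : ℕ} (Xs : Fin n → Action FintypeCat.{u} G) : Fintype (PP G Xs) :=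
  Fintype.ofFinite _

noncomputable instance {n : ℕ} (Xs : Fin n → Action FintypeCat.{u} G) (y : PP G Xs) :
    Fintype (MulAction.orbit G y) := Fintype.ofFinite _

/-- key lemma: an automorphism of the fibre functor acts on finitely many objects like some `g`. -/
lemma exists_eq_on_fin (τ : Aut (FF G)) (n : ℕ) (Xs : Fin n → Action FintypeCat.{u} G) :
    ∃ g : G, ∀ (i : Fin n) (x : (Xs i).V), τ.hom.app (Xs i) x = ((Xs i).ρ g).hom x := by
  let y₀ : PP G Xs := fun i x => x
  let incl : mkObj G (MulAction.orbit G y₀) ⟶ mkObj G (PP G Xs) :=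
    mkHom G (fun a => a.1) (fun g a => rfl)
  have h1 := congrArg (fun f => (ConcreteCategory.hom f)
    (⟨y₀, MulAction.mem_orbit_self y₀⟩ : MulAction.orbit G y₀)) (τ.hom.naturality incl)
  obtain ⟨g, hg⟩ : ∃ g : G, g • y₀ = τ.hom.app (mkObj G (PP G Xs)) y₀ := by
    have hmem : τ.hom.app (mkObj G (PP G Xs)) y₀ ∈ MulAction.orbit G y₀ := by
      have : τ.hom.app (mkObj G (PP G Xs)) y₀ =
          (τ.hom.app (mkObj G (MulAction.orbit G y₀))
            (⟨y₀, MulAction.mem_orbit_self y₀⟩ : MulAction.orbit G y₀) : MulAction.orbit G y₀).1 := h1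
      rw [this]
      exact Subtype.property _
    exact hmem
  refine ⟨g, fun i x => ?_⟩
  let ev : mkObj G (PP G Xs) ⟶ Xs i := ⟨FintypeCat.homMk (fun φ : PP G Xs => φ i x), by
    intro g'
    ext φ
    rfl⟩
  have h2 := congrArg (fun f => (ConcreteCategory.hom f) y₀) (τ.hom.naturality ev)
  have h3 : τ.hom.app (Xs i) x = (τ.hom.app (mkObj G (PP G Xs)) y₀ : PP G Xs) i x := h2
  rw [h3, ← hg]
  rfl

lemma exists_eq_on_finset (τ : Aut (FF G)) (I : Finset (Action FintypeCat.{u} G)) :
    ∃ g : G, ∀ X ∈ I, ∀ x : X.V, τ.hom.app X x = (X.ρ g).hom x := by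
  obtain ⟨g, hg⟩ := exists_eq_on_fin G τ I.card (fun i => (I.equivFin.symm i).1)
  refine ⟨g, fun X hX => ?_⟩
  obtain ⟨i, rfl⟩ : ∃ i, (I.equivFin.symm i).1 = X := ⟨I.equivFin ⟨X, hX⟩, by simp⟩
  exact hg i

lemma denseRange_iota : DenseRange (iota G) := by
  intro τ
  rw [(autEmbedding_isClosedEmbedding (FF G)).isInducing.closure_eq_preimage_closure_image,
    Set.mem_preimage, mem_closure_iff]
  intro o ho hτ
  obtain ⟨I, v, hv, hsub⟩ := isOpen_pi_iff.mp ho _ hτ
  obtain ⟨g, hg⟩ := exists_eq_on_finset G τ I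
  refine ⟨autEmbedding (FF G) (iota G g), hsub ?_, ⟨iota G g, ⟨g, rfl⟩, rfl⟩⟩
  intro X hX
  have : autEmbedding (FF G) (iota G g) X = autEmbedding (FF G) τ X := by
    apply Iso.ext
    ext x
    exact (hg X hX x).symm
  rw [this]
  exact (hv X hX).2

section Univ

variable {G}
variable {Q : Type u} [Group Q] [Finite Q]

/-- `Q` as a `G`-set through `π`. -/
def QS (_π : G →* Q) : Type u := Q

/-- the identity map `QS π → Q`. -/
def QS.toQ {π : G →* Q} (x : QS π) : Q := x

/-- the identity map `Q → QS π`. -/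
def QS.of (π : G →* Q) (q : Q) : QS π := q

instance (π : G →* Q) : MulAction G (QS π) := MulAction.compHom Q π

noncomputable instance (π : G →* Q) : Fintype (QS π) := Fintype.ofFinite Q

lemma QS_smul (π : G →* Q) (g : G) (x : QS π) : (g • x).toQ = π g * x.toQ := rfl

lemma QS.toQ_injective (π : G →* Q) : Function.Injective (QS.toQ (π := π)) := fun _ _ h => h

/-- the object `Q` with action through `π`. -/
noncomputable def QObj (π : G →* Q) : Action FintypeCat.{u} G :=
  mkObj G (QS π)

/-- right translation -/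
noncomputable def rmul (π : G →* Q) (q : Q) : QObj π ⟶ QObj π :=
  mkHom G (fun x : QS π => QS.of π (x.toQ * q)) (fun g x => by
    apply QS.toQ_injective
    show (π g * x.toQ) * q = π g * (x.toQ * q)
    exact mul_assoc _ _ _)

/-- components of an automorphism on `QObj`, as a self-map of `Q`. -/
noncomputable def appQ (π : G →* Q) (τ : Aut (FF G)) (x : Q) : Q :=
  QS.toQ (π := π) (τ.hom.app (QObj π) (QS.of π x))

lemma appQ_mul (π : G →* Q) (τ : Aut (FF G)) (x q : Q) :
    appQ π τ (x * q) = appQ π τ x * q := by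
  have h := congrArg (fun f => (ConcreteCategory.hom f) (QS.of π x))
    (τ.hom.naturality (rmul π q))
  exact congrArg QS.toQ h

/-- the induced homomorphism `Aut F → Q`. -/
noncomputable def psi (π : G →* Q) : Aut (FF G) →* Q where
  toFun τ := appQ π τ 1
  map_one' := rfl
  map_mul' σ τ := by
    show appQ π σ (appQ π τ 1) = _
    have := appQ_mul π σ 1 (appQ π τ 1)
    rw [one_mul] at this
    exact this

lemma psi_iota (π : G →* Q) : (psi π).comp (iota G) = π := by
  ext g
  show (π g * 1 : Q) = π g
  rw [mul_one]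

lemma continuous_psi [TopologicalSpace Q] [DiscreteTopology Q] (π : G →* Q) :
    Continuous (psi π) := by
  have h1 : Continuous (fun τ : Aut (FF G) => autEmbedding (FF G) τ (QObj π)) :=
    (continuous_apply _).comp continuous_induced_dom
  have h2 : Continuous (fun σ : Aut ((FF G).obj (QObj π)) =>
      QS.toQ (π := π) (σ.hom (QS.of π 1))) :=
    continuous_of_discreteTopology
  exact h2.comp h1

end Univ

end Groth.Agent.Lib.Helper6.Pi1A
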