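import Groth.Agent.Lib.Helper6.Pi1.Act

set_option autoImplicit false
set_option linter.unusedSectionVars false
universe u
open CategoryTheory PreGaloisCategory ProfiniteGrp ProfiniteCompletion

namespace Groth.Agent.Lib.Helper6.Pi1A

variable (G : Type u) [Group G]

/-- the homomorphism `Aut F → G/H` for a finite index normal subgroup. -/
noncomputable def psiH (H : FiniteIndexNormalSubgroup G) : Aut (FF G) →* G ⧸ H.toSubgroup :=
  psi (QuotientGroup.mk' H.toSubgroup)

lemma psiH_iota (H : FiniteIndexNormalSubgroup G) (g : G) :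
    psiH G H (iota G g) = QuotientGroup.mk g :=
  DFunLike.congr_fun (psi_iota (QuotientGroup.mk' H.toSubgroup)) g

lemma psiH_compat {H K : FiniteIndexNormalSubgroup G} (h : H ≤ K) (τ : Aut (FF G)) :
    QuotientGroup.map _ _ (MonoidHom.id G) h (psiH G H τ) = psiH G K τ := by
  let _ : TopologicalSpace (G ⧸ K.toSubgroup) := ⊥
  have : DiscreteTopology (G ⧸ K.toSubgroup) := ⟨rfl⟩
  let _ : TopologicalSpace (G ⧸ H.toSubgroup) := ⊥
  have : DiscreteTopology (G ⧸ H.toSubgroup) := ⟨rfl⟩
  have hc1 : Continuous (fun τ => QuotientGroup.map _ _ (MonoidHom.id G) h (psiH G H τ)) :=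
    continuous_of_discreteTopology.comp (continuous_psi (QuotientGroup.mk' H.toSubgroup))
  have hc2 : Continuous (fun τ => psiH G K τ) := continuous_psi (QuotientGroup.mk' K.toSubgroup)
  have := Continuous.ext_on (denseRange_iota G) hc1 hc2 (by
    rintro _ ⟨g, rfl⟩
    show QuotientGroup.map _ _ (MonoidHom.id G) h (psiH G H (iota G g)) = psiH G K (iota G g)
    rw [psiH_iota, psiH_iota]
    rfl)
  exact congrFun this τ

/-- the comparison map `Aut F → Ĝ`. -/
noncomputable def Psi : Aut (FF G) →* completion (GrpCat.of G) where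
  toFun τ := ⟨fun H => psiH G H τ, fun _ _ f => psiH_compat G f.le τ⟩
  map_one' := Subtype.ext (funext fun H => map_one (psiH G H))
  map_mul' σ τ := Subtype.ext (funext fun H => map_mul (psiH G H) σ τ)

lemma Psi_iota (g : G) : Psi G (iota G g) = etaFn (GrpCat.of G) g :=
  Subtype.ext (funext fun H => psiH_iota G H g)

lemma continuous_Psi : Continuous (Psi G) := by
  have h : Continuous (fun τ => ((Psi G τ).1 :
      (H : FiniteIndexNormalSubgroup (GrpCat.of G)) → (diagram (GrpCat.of G)).obj H)) := by
    apply continuous_pi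
    intro H
    let _ : TopologicalSpace (G ⧸ H.toSubgroup) :=
      inferInstanceAs (TopologicalSpace ((diagram (GrpCat.of G)).obj H))
    have : DiscreteTopology (G ⧸ H.toSubgroup) := ⟨rfl⟩
    exact continuous_psi (QuotientGroup.mk' H.toSubgroup)
  exact continuous_induced_rng.mpr h

instance finite_aut_fintypeCat (V : FintypeCat.{u}) : Finite (Aut V) :=
  Finite.of_injective (fun σ : Aut V => (fun x : V => σ.hom x)) (by
    intro σ τ h
    apply Iso.ext
    ext x
    exact congrFun h x)

open Classical in
lemma Psi_injective : Function.Injective (Psi G) := by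
  rw [injective_iff_map_eq_one]
  intro τ hτ
  apply Iso.ext
  ext X x
  let N : Subgroup G := X.ρAut.ker
  have hfin : Finite X.ρAut.range := Finite.of_injective (fun a => a.1) Subtype.val_injective
  have : N.FiniteIndex := Subgroup.finiteIndex_ker X.ρAut
  let H : FiniteIndexNormalSubgroup G := FiniteIndexNormalSubgroup.ofSubgroup N
  have hH : psiH G H τ = 1 := by
    have := congrArg (fun y : completion (GrpCat.of G) => y.1 H) hτ
    exact this
  obtain ⟨g, hg⟩ := exists_eq_on_finset G τ {X, QObj (QuotientGroup.mk' H.toSubgroup)}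
  have h1 := hg X (by simp)
  have h2 := hg (QObj (QuotientGroup.mk' H.toSubgroup)) (by simp)
  have h3 : psiH G H τ = QuotientGroup.mk g := by
    have h2' := h2 (QS.of (QuotientGroup.mk' H.toSubgroup) (1 : G ⧸ H.toSubgroup))
    have h5 : psiH G H τ = QS.toQ (π := QuotientGroup.mk' H.toSubgroup)
        (((QObj (QuotientGroup.mk' H.toSubgroup)).ρ g).hom
          (QS.of (QuotientGroup.mk' H.toSubgroup) (1 : G ⧸ H.toSubgroup))) :=
      congrArg (QS.toQ (π := QuotientGroup.mk' H.toSubgroup)) h2'
    rw [h5]
    show (QuotientGroup.mk' H.toSubgroup g * 1 : G ⧸ H.toSubgroup) = _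
    rw [mul_one]
    rfl
  rw [h3] at hH
  have hgN : g ∈ N := (QuotientGroup.eq_one_iff g).mp hH
  have h4 : X.ρAut g = 1 := hgN
  rw [h1 x]
  have := congrArg (fun σ : Aut X.V => σ.hom x) h4
  exact this

lemma Psi_surjective : Function.Surjective (Psi G) := by
  rw [← Set.range_eq_univ]
  have hcl : IsClosed (Set.range (Psi G)) := (isCompact_range (continuous_Psi G)).isClosed
  have hsub : Set.range (etaFn (GrpCat.of G)) ⊆ Set.range (Psi G) := by
    rintro _ ⟨g, rfl⟩
    exact ⟨iota G g, Psi_iota G g⟩
  have hd : Dense (Set.range (etaFn (GrpCat.of G))) := ProfiniteCompletion.denseRange (GrpCat.of G)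
  have := hd.closure_eq ▸ closure_minimal hsub hcl
  exact Set.eq_univ_of_univ_subset this

/-- the isomorphism of topological groups. -/
noncomputable def PsiEquiv : Aut (FF G) ≃ₜ* completion (GrpCat.of G) :=
  { MulEquiv.ofBijective (Psi G) ⟨Psi_injective G, Psi_surjective G⟩ with
    continuous_toFun := continuous_Psi G
    continuous_invFun := Continuous.continuous_symm_of_equiv_compact_to_t2
      (f := (MulEquiv.ofBijective (Psi G) ⟨Psi_injective G, Psi_surjective G⟩).toEquiv)
      (continuous_Psi G) }

lemma PsiEquiv_iota (g : G) : PsiEquiv G (iota G g) = etaFn (GrpCat.of G) g := Psi_iota G g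

theorem main :
    ∃ φ : (ProfiniteGrp.ProfiniteCompletion.completion (GrpCat.of G)) ≃ₜ*
        Aut (Action.forget FintypeCat.{u} G),
      ∀ (g : G) (X : Action FintypeCat.{u} G) (x : X.V),
        (φ (ProfiniteGrp.ProfiniteCompletion.etaFn (GrpCat.of G) g)).hom.app X x =
          (X.ρ g).hom x := by
  refine ⟨(PsiEquiv G).symm, fun g X x => ?_⟩
  have : (PsiEquiv G).symm (etaFn (GrpCat.of G) g) = iota G g := by
    rw [← PsiEquiv_iota]
    exact (PsiEquiv G).symm_apply_apply _
  rw [this]
  rfl

end Groth.Agent.Lib.Helper6.Pi1A
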