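import Mathlib

set_option autoImplicit false
set_option linter.unusedSectionVars false
universe u
open CategoryTheory PreGaloisCategory
open scoped FintypeCatDiscrete

namespace Groth.Agent.Lib.Helper6.Pi1

variable (G : Type u) [Group G] [TopologicalSpace G] [IsTopologicalGroup G]

/-- the forgetful functor -/
abbrev FF : ContAction FintypeCat.{u} G ⥤ FintypeCat.{u} := forget₂ _ _

/-- the canonical map `G → Aut F`. -/
noncomputable def iota : G →* Aut (FF G) where
  toFun g := NatIso.ofComponents (fun X => X.obj.ρAut g) (by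
    intro X Y f
    exact (f.hom.comm g).symm)
  map_one' := by
    ext X x
    show (X.obj.ρ 1).hom x = x
    rw [map_one]
    rfl
  map_mul' g h := by
    ext X x
    show (X.obj.ρ (g * h)).hom x = (X.obj.ρ g).hom ((X.obj.ρ h).hom x)
    rw [map_mul]
    rfl

omit [IsTopologicalGroup G] in
lemma iota_app (g : G) (X : ContAction FintypeCat.{u} G) (x : X.obj.V) :
    (iota G g).hom.app X x = (X.obj.ρ g).hom x := rfl

omit [IsTopologicalGroup G] in
lemma isOpen_setOf_smul_eq (X : ContAction FintypeCat.{u} G) (x y : X.obj.V) :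
    IsOpen {g : G | (X.obj.ρ g).hom x = y} := by
  have h1 : ContinuousSMul G X.obj.V := X.2
  have h2 : Continuous (fun g : G => g • x) := continuous_id.smul continuous_const
  exact (isOpen_discrete {y}).preimage h2

lemma continuous_iota : Continuous (iota G) := by
  rw [continuous_induced_rng, continuous_pi_iff]
  intro X
  rw [continuous_discrete_rng]
  intro σ
  have : ((fun g => (autEmbedding (FF G)) (iota G g) X) ⁻¹' {σ}) =
      ⋂ x : X.obj.V, {g : G | (X.obj.ρ g).hom x = σ.hom x} := by
    ext g
    simp only [Set.mem_preimage, Set.mem_singleton_iff, Set.mem_iInter, Set.mem_ofPred_eq]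
    constructor
    · intro h x
      rw [← h]
      rfl
    · intro h
      apply Iso.ext
      ext x
      exact h x
  change IsOpen ((fun g => (autEmbedding (FF G)) (iota G g) X) ⁻¹' {σ})
  rw [this]
  have : Finite X.obj.V := inferInstance
  exact isOpen_iInter_of_finite fun x => isOpen_setOf_smul_eq G X x _




/-- a finite `G`-set with open point-stabilizer conditions gives an object of `ContAction`. -/
noncomputable def mkObj (H : Type u) [Fintype H] [MulAction G H]
    (hH : ∀ x y : H, IsOpen {g : G | g • x = y}) : ContAction FintypeCat.{u} G :=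
  ⟨Action.FintypeCat.ofMulAction G (FintypeCat.of H), by
    rw [Action.isContinuous_def]
    have : DiscreteTopology ((forget₂ (Action FintypeCat G) TopCat).obj
      (Action.FintypeCat.ofMulAction G (FintypeCat.of H))) := ⟨rfl⟩
    have : DiscreteTopology ((forget₂ FintypeCat TopCat).obj
      (Action.FintypeCat.ofMulAction G (FintypeCat.of H)).V) := ⟨rfl⟩
    rw [continuous_prod_of_discrete_right]
    intro x
    rw [continuous_discrete_rng]
    intro y
    exact hH x y⟩

lemma mkObj_ρ (H : Type u) [Fintype H] [MulAction G H]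
    (hH : ∀ x y : H, IsOpen {g : G | g • x = y}) (g : G) (x : H) :
    ((mkObj G H hH).obj.ρ g).hom x = g • x := rfl

/-- equivariant maps give morphisms -/
noncomputable def mkHom {H H' : Type u} [Fintype H] [MulAction G H] [Fintype H'] [MulAction G H']
    (hH : ∀ x y : H, IsOpen {g : G | g • x = y}) (hH' : ∀ x y : H', IsOpen {g : G | g • x = y})
    (φ : H → H') (hφ : ∀ (g : G) (x : H), φ (g • x) = g • φ x) :
    mkObj G H hH ⟶ mkObj G H' hH' :=
  ObjectProperty.homMk ⟨FintypeCat.homMk φ, by
    intro g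
    ext x
    exact hφ g x⟩

lemma mkHom_apply {H H' : Type u} [Fintype H] [MulAction G H] [Fintype H'] [MulAction G H']
    (hH : ∀ x y : H, IsOpen {g : G | g • x = y}) (hH' : ∀ x y : H', IsOpen {g : G | g • x = y})
    (φ : H → H') (hφ : ∀ (g : G) (x : H), φ (g • x) = g • φ x) (x : H) :
    ((FF G).map (mkHom G hH hH' φ hφ)) x = φ x := rfl


/-- product of function spaces -/
abbrev PP {n : ℕ} (Xs : Fin n → ContAction FintypeCat.{u} G) : Type u :=
  (i : Fin n) → (Xs i).obj.V → (Xs i).obj.V

noncomputable instance {n : ℕ} (Xs : Fin n → ContAction FintypeCat.{u} G) : Fintype (PP G Xs) :=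
  Fintype.ofFinite _

noncomputable instance {n : ℕ} (Xs : Fin n → ContAction FintypeCat.{u} G) (y : PP G Xs) :
    Fintype (MulAction.orbit G y) := Fintype.ofFinite _

/-- key lemma: an automorphism of the fibre functor acts on finitely many objects like some `g`. -/
lemma exists_eq_on_fin (τ : Aut (FF G)) (n : ℕ) (Xs : Fin n → ContAction FintypeCat.{u} G) :
    ∃ g : G, ∀ (i : Fin n) (x : (Xs i).obj.V), τ.hom.app (Xs i) x = ((Xs i).obj.ρ g).hom x := by
  have hopen : ∀ (i : Fin n) (x y : (Xs i).obj.V), IsOpen {g : G | g • x = y} :=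
    fun i x y => isOpen_setOf_smul_eq G (Xs i) x y
  have hP : ∀ φ ψ : PP G Xs, IsOpen {g : G | g • φ = ψ} := by
    intro φ ψ
    have : {g : G | g • φ = ψ} = ⋂ (i : Fin n), ⋂ (x : (Xs i).obj.V), {g : G | g • φ i x = ψ i x} := by
      ext g
      simp only [Set.mem_ofPred_eq, Set.mem_iInter]
      constructor
      · intro h i x
        rw [← h]; rfl
      · intro h
        funext i x
        exact h i x
    rw [this]
    exact isOpen_iInter_of_finite fun i => isOpen_iInter_of_finite fun x => hopen i _ _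
  let y₀ : PP G Xs := fun i x => x
  have hO : ∀ a b : MulAction.orbit G y₀, IsOpen {g : G | g • a = b} := by
    intro a b
    have : {g : G | g • a = b} = {g : G | g • a.1 = b.1} := by
      ext g
      simp only [Set.mem_ofPred_eq]
      constructor
      · intro h; rw [← h]; rfl
      · intro h; exact Subtype.ext h
    rw [this]
    exact hP _ _
  let incl : mkObj G (MulAction.orbit G y₀) hO ⟶ mkObj G (PP G Xs) hP := mkHom G hO hP (fun a => a.1) (fun g a => rfl)
  have h1 := congrArg (fun f => (ConcreteCategory.hom f) (⟨y₀, MulAction.mem_orbit_self y₀⟩ : MulAction.orbit G y₀))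
    (τ.hom.naturality incl)
  obtain ⟨g, hg⟩ : ∃ g : G, g • y₀ = τ.hom.app (mkObj G (PP G Xs) hP) y₀ := by
    have hmem : τ.hom.app (mkObj G (PP G Xs) hP) y₀ ∈ MulAction.orbit G y₀ := by
      have : τ.hom.app (mkObj G (PP G Xs) hP) y₀ =
          (τ.hom.app (mkObj G (MulAction.orbit G y₀) hO) (⟨y₀, MulAction.mem_orbit_self y₀⟩ : MulAction.orbit G y₀) : MulAction.orbit G y₀).1 := h1
      rw [this]
      exact Subtype.property _
    exact hmem
  refine ⟨g, fun i x => ?_⟩
  let ev : mkObj G (PP G Xs) hP ⟶ Xs i := ObjectProperty.homMk ⟨FintypeCat.homMk (fun φ : PP G Xs => φ i x), by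
    intro g'
    ext φ
    rfl⟩
  have h2 := congrArg (fun f => (ConcreteCategory.hom f) y₀) (τ.hom.naturality ev)
  have h3 : τ.hom.app (Xs i) x = (τ.hom.app (mkObj G (PP G Xs) hP) y₀ : PP G Xs) i x := h2
  rw [h3, ← hg]
  rfl


lemma exists_eq_on_finset (τ : Aut (FF G)) (I : Finset (ContAction FintypeCat.{u} G)) :
    ∃ g : G, ∀ X ∈ I, ∀ x : X.obj.V, τ.hom.app X x = (X.obj.ρ g).hom x := by
  obtain ⟨g, hg⟩ := exists_eq_on_fin G τ I.card (fun i => (I.equivFin.symm i).1)
  refine ⟨g, fun X hX => ?_⟩
  obtain ⟨i, rfl⟩ : ∃ i, (I.equivFin.symm i).1 = X := ⟨I.equivFin ⟨X, hX⟩, by simp⟩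
  exact hg i

lemma denseRange_iota : DenseRange (iota G) := by
  intro τ
  rw [(autEmbedding_isClosedEmbedding (FF G)).isInducing.closure_eq_preimage_closure_image,
    Set.mem_preimage, mem_closure_iff]
  intro o ho hτ
  obtain ⟨I, v, hv, hsub⟩ := isOpen_pi_iff.mp ho _ hτ
  obtain ⟨g, hg⟩ := exists_eq_on_finset G τ I
  refine ⟨autEmbedding (FF G) (iota G g), hsub ?_, ⟨iota G g, ⟨g, rfl⟩, rfl⟩⟩
  intro X hX
  have : autEmbedding (FF G) (iota G g) X = autEmbedding (FF G) τ X := by
    apply Iso.ext
    ext x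
    exact (hg X hX x).symm
  rw [this]
  exact (hv X hX).2

section Univ

variable {G}
variable {Q : Type u} [Group Q] [Finite Q] [TopologicalSpace Q] [DiscreteTopology Q]

/-- `Q` as a `G`-set through `π`. -/
def QS (_π : G →* Q) : Type u := Q

/-- the identity map `QS π → Q`. -/
def QS.toQ {π : G →* Q} (x : QS π) : Q := x

/-- the identity map `Q → QS π`. -/
def QS.of (π : G →* Q) (q : Q) : QS π := q

instance (π : G →* Q) : MulAction G (QS π) := MulAction.compHom Q π

noncomputable instance (π : G →* Q) : Fintype (QS π) := Fintype.ofFinite Q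

lemma QS_smul (π : G →* Q) (g : G) (x : QS π) : (g • x).toQ = π g * x.toQ := rfl

lemma QS.toQ_injective (π : G →* Q) : Function.Injective (QS.toQ (π := π)) := fun _ _ h => h

lemma QS_isOpen (π : G →* Q) (hπ : Continuous π) (x y : QS π) : IsOpen {g : G | g • x = y} := by
  have : {g : G | g • x = y} = π ⁻¹' {y.toQ * x.toQ⁻¹} := by
    ext g
    simp only [Set.mem_ofPred_eq, Set.mem_preimage, Set.mem_singleton_iff]
    rw [eq_mul_inv_iff_mul_eq, ← QS_smul]
    exact (QS.toQ_injective π).eq_iff.symm
  rw [this]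
  exact (isOpen_discrete _).preimage hπ

/-- the object `Q` with action through `π`. -/
noncomputable def QObj (π : G →* Q) (hπ : Continuous π) : ContAction FintypeCat.{u} G :=
  mkObj G (QS π) (QS_isOpen π hπ)

/-- right translation -/
noncomputable def rmul (π : G →* Q) (hπ : Continuous π) (q : Q) : QObj π hπ ⟶ QObj π hπ :=
  mkHom G _ _ (fun x : QS π => QS.of π (x.toQ * q)) (fun g x => by
    apply QS.toQ_injective
    show (π g * x.toQ) * q = π g * (x.toQ * q)
    exact mul_assoc _ _ _)

/-- components of an automorphism on `QObj`, as a self-map of `Q`. -/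
noncomputable def appQ (π : G →* Q) (hπ : Continuous π) (τ : Aut (FF G)) (x : Q) : Q :=
  QS.toQ (π := π) (τ.hom.app (QObj π hπ) (QS.of π x))

lemma appQ_mul (π : G →* Q) (hπ : Continuous π) (τ : Aut (FF G)) (x q : Q) :
    appQ π hπ τ (x * q) = appQ π hπ τ x * q := by
  have h := congrArg (fun f => (ConcreteCategory.hom f) (QS.of π x))
    (τ.hom.naturality (rmul π hπ q))
  exact congrArg QS.toQ h

/-- the induced homomorphism `Aut F → Q`. -/
noncomputable def psi (π : G →* Q) (hπ : Continuous π) : Aut (FF G) →* Q where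
  toFun τ := appQ π hπ τ 1
  map_one' := rfl
  map_mul' σ τ := by
    show appQ π hπ σ (appQ π hπ τ 1) = _
    have := appQ_mul π hπ σ 1 (appQ π hπ τ 1)
    rw [one_mul] at this
    exact this

lemma psi_iota (π : G →* Q) (hπ : Continuous π) : (psi π hπ).comp (iota G) = π := by
  ext g
  show (π g * 1 : Q) = π g
  rw [mul_one]

lemma continuous_psi (π : G →* Q) (hπ : Continuous π) : Continuous (psi π hπ) := by
  have h1 : Continuous (fun τ : Aut (FF G) => autEmbedding (FF G) τ (QObj π hπ)) :=
    (continuous_apply _).comp continuous_induced_dom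
  have h2 : Continuous (fun σ : Aut ((FF G).obj (QObj π hπ)) =>
      QS.toQ (π := π) (σ.hom (QS.of π 1))) :=
    continuous_of_discreteTopology
  exact h2.comp h1

end Univ

theorem main :
    ∃ ι : G →* Aut (forget₂ (ContAction FintypeCat.{u} G) FintypeCat.{u}),
      Continuous ι ∧
      (∀ (g : G) (X : ContAction FintypeCat.{u} G) (x : X.obj.V),
        (ι g).hom.app X x = (X.obj.ρ g).hom x) ∧
      DenseRange ι ∧
      ∀ (Q : Type u) [Group Q] [Finite Q] [TopologicalSpace Q] [DiscreteTopology Q] (π : G →* Q),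
        Continuous π → ∃! ψ : Aut (forget₂ (ContAction FintypeCat.{u} G) FintypeCat.{u}) →* Q,
          Continuous ψ ∧ ψ.comp ι = π := by
  refine ⟨iota G, continuous_iota G, fun g X x => rfl, denseRange_iota G, ?_⟩
  intro Q _ _ _ _ π hπ
  refine ⟨psi π hπ, ⟨continuous_psi π hπ, psi_iota π hπ⟩, ?_⟩
  rintro ψ' ⟨hc, he⟩
  apply DFunLike.coe_injective
  refine Continuous.ext_on (denseRange_iota G) hc (continuous_psi π hπ) ?_
  rintro _ ⟨g, rfl⟩
  have h1 := DFunLike.congr_fun he g
  have h2 := DFunLike.congr_fun (psi_iota π hπ) g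
  exact h1.trans h2.symm

end Groth.Agent.Lib.Helper6.Pi1
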